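import Cfsg.Agent.Lib.JankoFour.Reduce.TypeOf

/-!
Janko-four type from the hypotheses on the involution centraliser used in the statements on the fourth Janko group.
-/

set_option autoImplicit false

namespace Cfsg.Agent.JankoFour.Reduce

/-- Janko-four type at the involution with a centraliser of the shape of J4. -/
theorem type_at_of_centraliser {G : Type*} [Group G] [Finite G] {t : G} (ht : orderOf t = 2)
    {Q N M : Subgroup (Subgroup.centralizer ({t} : Set G))} [hq : Q.Normal] [hn : N.Normal] [hm : M.Normal]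
    (hQN : Q ≤ N) (hNM : N ≤ M) (hM : M.index = 2) (hQ : Cfsg.IsExtraspecial 2 Q) (hcard : Nat.card Q = 2 ^ 13)
    (hN : Nat.card N = 3 * Nat.card Q) (hcent : ⁅M, N⁆ ≤ Q) (hperf : M ≤ ⁅M, M⁆ ⊔ Q)
    (h2c : Subgroup.centralizer (Q : Set (Subgroup.centralizer ({t} : Set G))) ≤ Q)
    (hout : ∀ c : Subgroup.centralizer ({t} : Set G), (∀ m ∈ M, c * m * c⁻¹ * m⁻¹ ∈ N) → c ∈ M)
    (hM22 : Cfsg.Spor.IsoM22 (M ⧸ N.subgroupOf M)) : Cfsg.IsOfJankoFourTypeAt t :=
  Tower.exists_type_with ⟨ht, hq, hn, hm, hQN, hNM, hM, hQ, hcard, hN, hcent, hperf, h2c, hout, hM22⟩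

end Cfsg.Agent.JankoFour.Reduce
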