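import Cfsg.Agent.Lib.JankoFour.Reduce.Entry
import Cfsg.Agent.Lib.Components.FStar
import Cfsg.Prelude.Def_MonsterType

/-!
Janko-four type from an extraspecial centraliser whose quotient by a non-split extension by three is Aut M22.
-/

set_option autoImplicit false
set_option linter.style.haveILetI false
set_option linter.unusedSectionVars false

namespace Cfsg.Agent.JankoFour.Reduce

open Subgroup
open scoped commutatorElement

/-- A nonabelian extraspecial subgroup of a centraliser makes the group noncommutative. -/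
theorem not_comm_of_extraspecial {G : Type*} [Group G] {H : Subgroup G} {Q : Subgroup ↥H}
    (hQ : Cfsg.IsExtraspecial 2 Q) (hcard : Nat.card Q = 2 ^ 13) : ¬ IsMulCommutative G := by
  intro hc
  have htop : center ↥Q = ⊤ := eq_top_iff.2 fun a _ => mem_center_iff.2 fun b =>
    Subtype.ext (Subtype.ext (mul_comm' _ _))
  have h2 := hQ.2
  rw [htop, card_top, hcard] at h2
  norm_num at h2

/-- Janko-four type at the involution. -/
theorem type_at_of_aut {G : Type*} [Group G] [Finite G] {t : G}
    {Q N : Subgroup ↥(centralizer ({t} : Set G))} [hq : Q.Normal] [hn : N.Normal]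
    (hS : Cfsg.IsExtraspecialCentralizerSetting t Q 6) (hQN : Q ≤ N) (hN3 : Nat.card ↥N = 3 * Nat.card ↥Q)
    (hns : ∀ K : Subgroup ↥(centralizer ({t} : Set G)), K ⊓ N = Q → K ⊔ N = ⊤ → False)
    (hAut : Nonempty (↥(centralizer ({t} : Set G)) ⧸ N ≃* MulAut ↥Cfsg.Spor.M22)) :
    Cfsg.IsOfJankoFourTypeAt t := by
  classical
  obtain ⟨ht, hF, hQ, hcard, -⟩ := hS
  obtain ⟨e⟩ := hAut
  set π : ↥(centralizer ({t} : Set G)) →* MulAut ↥Cfsg.Spor.M22 := e.toMonoidHom.comp (QuotientGroup.mk' N) with hπ
  have hπs : Function.Surjective π := e.surjective.comp (QuotientGroup.mk'_surjective N)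
  have hπk : π.ker = N := by
    ext c
    rw [MonoidHom.mem_ker, hπ, MonoidHom.comp_apply, MulEquiv.coe_toMonoidHom, MulEquiv.map_eq_one_iff,
      QuotientGroup.mk'_apply, QuotientGroup.eq_one_iff]
  set M := (Cfsg.Inn ↥Cfsg.Spor.M22).comap π with hMdef
  haveI hmn : M.Normal := (normal_of_index_eq_two index_inn).comap π
  have hM : M.index = 2 := by rw [hMdef, index_comap_of_surjective _ hπs, index_inn]
  have hNM : N ≤ M := fun c hc => by
    rw [hMdef, mem_comap, MonoidHom.mem_ker.1 (hπk.ge hc)]; exact one_mem _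
  have hQ13 : Nat.card ↥Q = 2 ^ 13 := hcard
  -- inner part
  let f : ↥M →* ↥(Cfsg.Inn ↥Cfsg.Spor.M22) := MonoidHom.mk' (fun m => ⟨π m, mem_comap.1 m.2⟩)
    fun a b => Subtype.ext (map_mul π _ _)
  have hfs : Function.Surjective f := fun a => by
    obtain ⟨c, hc⟩ := hπs a
    exact ⟨⟨c, mem_comap.2 (hc ▸ a.2)⟩, Subtype.ext hc⟩
  have hfk : f.ker = N.subgroupOf M := by
    ext m
    rw [MonoidHom.mem_ker, mem_subgroupOf, ← hπk, MonoidHom.mem_ker]
    exact Subtype.ext_iff
  have hM22 : Cfsg.Spor.IsoM22 (↥M ⧸ N.subgroupOf M) :=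
    ⟨((QuotientGroup.quotientMulEquivOfEq hfk.symm).trans (QuotientGroup.quotientKerEquivOfSurjective f hfs)).trans
      (MonoidHom.ofInjective conj_injective).symm⟩
  have hout : ∀ c : ↥(centralizer ({t} : Set G)), (∀ m ∈ M, c * m * c⁻¹ * m⁻¹ ∈ N) → c ∈ M := by
    intro c hc
    refine hNM (hπk.le (MonoidHom.mem_ker.2 ?_))
    refine MulEquiv.ext fun a => ?_
    obtain ⟨m, hm⟩ := hπs (MulAut.conj a)
    have h1 : π (c * m * c⁻¹ * m⁻¹) = 1 := MonoidHom.mem_ker.1 (hπk.ge (hc m (mem_comap.2 (hm ▸ ⟨a, rfl⟩))))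
    rw [map_mul, map_mul, map_mul, map_inv, map_inv, mul_inv_eq_one, hm] at h1
    have h2 : MulAut.conj (π c a) = MulAut.conj a := by
      rw [← h1]
      refine MulEquiv.ext fun b => ?_
      simp [MulAut.conj_apply]
    exact conj_injective h2
  -- the derived subgroup of M covers M modulo Q
  set K0 := ⁅M, M⁆ ⊔ Q with hK0
  haveI : K0.Normal := inferInstance
  have hK0M : K0 ≤ M := sup_le (commutator_le_self M) (hQN.trans hNM)
  have hK0s : K0 ⊔ N = M := by
    refine le_antisymm (sup_le hK0M hNM) fun m hm => ?_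
    haveI := Golay.isSimpleGroup_sporM22
    obtain ⟨e22⟩ := hM22
    haveI : IsSimpleGroup (↥M ⧸ N.subgroupOf M) := e22.isSimpleGroup
    set q := QuotientGroup.mk' (N.subgroupOf M)
    have hcomm : (_root_.commutator ↥M).map q = ⊤ := by
      refine ((Subgroup.commutator_normal ⊤ ⊤).map q (QuotientGroup.mk'_surjective _)).eq_bot_or_eq_top.resolve_left
        fun hb => ?_
      have hab : ∀ a b : ↥Cfsg.Spor.M22, a * b = b * a := fun a b => by
        obtain ⟨x, hx⟩ := QuotientGroup.mk'_surjective (N.subgroupOf M) (e22.symm a)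
        obtain ⟨y, hy⟩ := QuotientGroup.mk'_surjective (N.subgroupOf M) (e22.symm b)
        have h : q ⁅x, y⁆ = 1 := by
          have := mem_map_of_mem q (commutator_mem_commutator (mem_top x) (mem_top y) : ⁅x, y⁆ ∈ _root_.commutator ↥M)
          rwa [hb, mem_bot] at this
        rw [map_commutatorElement, commutatorElement_eq_one_iff_mul_comm, hx, hy, ← map_mul, ← map_mul] at h
        exact e22.symm.injective h
      let _ : CommGroup ↥Cfsg.Spor.M22 := { mul_comm := hab }
      have hp := IsSimpleGroup.prime_card (α := ↥Cfsg.Spor.M22)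
      rw [Golay.card_sporM22] at hp
      norm_num at hp
    obtain ⟨d, hd, hdm⟩ : q ⟨m, hm⟩ ∈ (_root_.commutator ↥M).map q := hcomm ▸ mem_top _
    have hd' : (d : ↥(centralizer ({t} : Set G))) ∈ ⁅M, M⁆ := by
      have := mem_map_of_mem M.subtype hd
      rwa [map_subtype_commutator] at this
    have hn' : (d : ↥(centralizer ({t} : Set G)))⁻¹ * m ∈ N := mem_subgroupOf.1 (QuotientGroup.eq.1 hdm)
    have := mul_mem (mem_sup_left (mem_sup_left hd' : _ ∈ K0) : _ ∈ K0 ⊔ N) (mem_sup_right hn')
    rwa [mul_inv_cancel_left] at this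
  have hperf : M ≤ ⁅M, M⁆ ⊔ Q := by
    rw [← hK0, ← hK0s]
    refine sup_le le_rfl ?_
    by_contra hnle
    -- the derived part meets N in Q
    have hint : K0 ⊓ N = Q := by
      have hQle : Q ≤ K0 ⊓ N := le_inf le_sup_right hQN
      obtain ⟨a, ha⟩ := card_dvd_of_le hQle
      have hb := card_dvd_of_le (inf_le_right : K0 ⊓ N ≤ N)
      rw [ha, hN3, mul_comm 3, Nat.mul_dvd_mul_iff_left Nat.card_pos] at hb
      rcases (Nat.dvd_prime Nat.prime_three).1 hb with rfl | rfl
      · exact (eq_of_le_of_card_ge hQle (by rw [ha, mul_one])).symm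
      · exact absurd (le_trans (le_of_eq (eq_of_le_of_card_ge (inf_le_right : K0 ⊓ N ≤ N)
          (by rw [ha, hN3, mul_comm])).symm) inf_le_left) hnle
    obtain ⟨c, hc⟩ : ∃ c, c ∉ M := by
      by_contra hh
      push Not at hh
      have : M = ⊤ := eq_top_iff.2 fun c _ => hh c
      rw [this, index_top] at hM
      norm_num at hM
    have hidx : K0.index = 6 := by
      have h1 := relIndex_mul_index hK0M
      have h2 : Nat.card ↥M = 3 * Nat.card ↥K0 := by
        have h := card_mul_index (N.subgroupOf K0)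
        have h' : N.relIndex K0 = N.relIndex M := by rw [← hK0s, relIndex_sup_right]
        have h'' := card_mul_index (N.subgroupOf M)
        rw [Nat.card_congr (subgroupOfEquivOfLe hNM).toEquiv, hN3] at h''
        have e1 : Nat.card ↥(N.subgroupOf K0) = Nat.card ↥Q := by
          rw [← card_map_of_injective K0.subtype_injective, subgroupOf_map_subtype, inf_comm, hint]
        rw [e1] at h
        rw [← h'', ← h]
        show 3 * Nat.card ↥Q * N.relIndex M = 3 * (Nat.card ↥Q * N.relIndex K0)
        rw [h', mul_assoc]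
      have h3 := card_mul_index K0
      have h4 := card_mul_index M
      rw [hM, h2, ← h3] at h4
      exact Nat.eq_of_mul_eq_mul_left Nat.card_pos (by rw [← h4]; ring)
    have hc6 : c ^ 6 ∈ K0 := by
      rw [← QuotientGroup.eq_one_iff, QuotientGroup.mk_pow, ← hidx, index_eq_card]
      exact pow_card_eq_one'
    have hc3 : c ^ 3 ∉ M := fun h => hc (by
      have h2 : c ^ 2 ∈ M := by
        rw [pow_two]; exact (mul_mem_iff_of_index_two hM).2 Iff.rfl
      have := mul_mem h (inv_mem h2)
      rwa [pow_succ c 2, show c ^ 2 * c * (c ^ 2)⁻¹ = c by group] at this)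
    set d := c ^ 3 with hd
    have hd2 : d * d ∈ K0 := by rw [hd, ← pow_add]; exact hc6
    set K := (zpowers (QuotientGroup.mk' K0 d)).comap (QuotientGroup.mk' K0) with hK
    refine hns K ?_ ?_
    · refine le_antisymm (fun k hk => ?_) (le_inf ((le_sup_right : Q ≤ K0).trans (fun k hk => ?_)) hQN)
      · obtain ⟨hkK, hkN⟩ := mem_inf.1 hk
        obtain ⟨i, hi⟩ := mem_zpowers_iff.1 (mem_comap.1 hkK)
        have hsq : (QuotientGroup.mk' K0 d) ^ (2 : ℤ) = 1 := by
          rw [zpow_two, ← map_mul]; exact (QuotientGroup.eq_one_iff _).2 hd2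
        rcases Int.even_or_odd i with ⟨j, rfl⟩ | ⟨j, rfl⟩
        · rw [← two_mul, zpow_mul, hsq, one_zpow, eq_comm, QuotientGroup.mk'_apply, QuotientGroup.eq_one_iff] at hi
          rw [← hint]
          exact mem_inf.2 ⟨hi, hkN⟩
        · rw [zpow_add, zpow_mul, hsq, one_zpow, one_mul, zpow_one, QuotientGroup.mk'_apply, QuotientGroup.mk'_apply,
            QuotientGroup.eq] at hi
          have := mul_mem (hNM hkN) (inv_mem (hK0M hi))
          rw [show k * (d⁻¹ * k)⁻¹ = d by group] at this
          exact absurd this hc3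
      · rw [hK, mem_comap, show QuotientGroup.mk' K0 k = 1 from (QuotientGroup.eq_one_iff k).2 hk]; exact one_mem _
    · have hK0K : K0 ≤ K := fun k hk => by
        rw [hK, mem_comap, show QuotientGroup.mk' K0 k = 1 from (QuotientGroup.eq_one_iff k).2 hk]; exact one_mem _
      have hMle : M ≤ K ⊔ N := hK0s ▸ sup_le_sup_right hK0K N
      have hdK : d ∈ K ⊔ N := mem_sup_left (mem_comap.2 (mem_zpowers _))
      refine eq_top_iff.2 fun x _ => ?_
      by_cases hx : x ∈ M
      · exact hMle hx
      · have h : x * d ∈ M := (mul_mem_iff_of_index_two hM).2 (iff_of_false hx hc3)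
        have := mul_mem (hMle h) (inv_mem hdK)
        rwa [mul_inv_cancel_right] at this
  -- M centralises N modulo Q
  have hcent : ⁅M, N⁆ ≤ Q := by
    set φ : ↥(centralizer ({t} : Set G)) →* ↥(centralizer ({t} : Set G)) ⧸ Q := QuotientGroup.mk' Q with hφ
    have hker : ∀ {x}, x ∈ Q ↔ φ x = 1 := fun {x} => (QuotientGroup.eq_one_iff x).symm
    set Nb := N.map φ with hNb
    have hNb3 : Nat.card ↥Nb = 3 := by
      have h := card_mul_index (Q.subgroupOf N)
      rw [Nat.card_congr (subgroupOfEquivOfLe hQN).toEquiv, hN3, mul_comm 3] at h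
      have h' : Q.relIndex N = 3 := Nat.eq_of_mul_eq_mul_left Nat.card_pos h
      rw [hNb, ← relIndex_ker N φ, hφ]
      simpa only [QuotientGroup.ker_mk'] using h'
    haveI : Fact (Nat.Prime 3) := ⟨Nat.prime_three⟩
    have hcyc : IsCyclic ↥Nb := isCyclic_of_prime_card hNb3
    haveI : Nb.Normal := hn.map φ (QuotientGroup.mk'_surjective Q)
    haveI := hcyc
    let α : ↥(centralizer ({t} : Set G)) →* MulAut ↥Nb :=
      (MulAut.conjNormal : _ →* MulAut ↥Nb).comp φ
    have hαcomm : ∀ a b, α a * α b = α b * α a := fun a b => by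
      refine MulEquiv.ext fun n => ?_
      obtain ⟨ga, hga⟩ := MonoidHom.map_cyclic (α a).toMonoidHom
      obtain ⟨gb, hgb⟩ := MonoidHom.map_cyclic (α b).toMonoidHom
      have ea : ∀ x, α a x = x ^ ga := hga
      have eb : ∀ x, α b x = x ^ gb := hgb
      show α a (α b n) = α b (α a n)
      rw [ea, eb, ea, eb, ← zpow_mul, ← zpow_mul, mul_comm]
    rw [commutator_le]
    intro m hm n hn'
    have hαm : α m = 1 := by
      have hle : ⁅M, M⁆ ⊔ Q ≤ α.ker := by
        refine sup_le ?_ fun q hq => ?_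
        · rw [commutator_le]
          intro a _ b _
          rw [MonoidHom.mem_ker, map_commutatorElement, commutatorElement_eq_one_iff_mul_comm]
          exact hαcomm a b
        · rw [MonoidHom.mem_ker]
          show MulAut.conjNormal (φ q) = 1
          rw [hker.1 hq, map_one]
      exact MonoidHom.mem_ker.1 (hle (hperf hm))
    have h1 := congrArg Subtype.val (DFunLike.congr_fun hαm (⟨φ n, mem_map_of_mem φ hn'⟩ : ↥Nb))
    simp only [α, MonoidHom.comp_apply, MulAut.conjNormal_apply, MulAut.one_apply] at h1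
    rw [hker, commutatorElement_def, map_mul, map_mul, map_mul, map_inv, map_inv, h1, mul_inv_cancel]
  have h2c : centralizer (Q : Set ↥(centralizer ({t} : Set G))) ≤ Q := hF ▸ Components.centralizer_generalizedFitting_le
  exact type_at_of_centraliser ht hQN hNM hM hQ hQ13 hN3 hcent hperf h2c hout hM22

end Cfsg.Agent.JankoFour.Reduce
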