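import Cfsg.Agent.Lib.J4Module.Rep
import Mathlib.GroupTheory.Abelianization.Defs
import Mathlib.Algebra.BigOperators.Group.Finset.Basic

/-!
A central element of order three in the derived group acts without fixed vectors on a space of order 4096 as
soon as an element of order eleven lies in no proper normal subgroup.
-/

set_option autoImplicit false
set_option linter.style.haveILetI false
set_option linter.unusedSectionVars false

namespace Cfsg.Agent.JankoFour.Reduce

universe u v

/-- A fixed point free central element of order three in the derived group: nine divides the number of points. -/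
theorem nine_dvd {X : Type u} [Finite X] {K : Type v} [Group K] (ρ : K →* Equiv.Perm X) (p : K)
    (h3 : ρ p ^ 3 = 1) (hfree : ∀ x, ρ p x ≠ x) (hcomm : ∀ k, Commute (ρ k) (ρ p))
    (hp : p ∈ commutator K ⊔ ρ.ker) : 9 ∣ Nat.card X := by
  classical
  haveI := Fintype.ofFinite X
  set π := ρ p with hπ
  let sh : ZMod 3 → Equiv.Perm X := fun i => π ^ i.val
  have sh_add : ∀ a b, sh (a + b) = sh a * sh b := fun a b => by
    show π ^ (a + b).val = π ^ a.val * π ^ b.val
    rw [← pow_add, ZMod.val_add, ← pow_eq_pow_mod _ h3]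
  have sh_free : ∀ i x, sh i x = x → i = 0 := by
    intro i x h
    have h1 := hfree x
    rcases (by clear h; revert i; decide : i = 0 ∨ i = 1 ∨ i = 2) with rfl | rfl | rfl
    · rfl
    · refine absurd ?_ h1
      have h2 : (π ^ 1) x = x := h
      rwa [pow_one] at h2
    · refine absurd ?_ h1
      have h2 : (π ^ 2) x = x := h
      calc π x = π ((π ^ 2) x) := by rw [h2]
        _ = (π ^ 3) x := by rw [pow_succ' π 2]; rfl
        _ = x := by rw [h3]; rfl
  let st : Setoid X :=
    { r := fun x y => ∃ i, sh i x = y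
      iseqv :=
        { refl := fun x => ⟨0, by simp [sh]⟩
          symm := fun {x y} ⟨i, hi⟩ => ⟨-i, by
            rw [← hi, ← Equiv.Perm.mul_apply, ← sh_add, neg_add_cancel]; simp [sh]⟩
          trans := fun {x y w} ⟨i, hi⟩ ⟨j, hj⟩ => ⟨j + i, by
            rw [sh_add, Equiv.Perm.mul_apply, hi, hj]⟩ } }
  have hex : ∀ x, ∃ i, sh i (Quotient.mk st x).out = x := fun x => Quotient.mk_out (s := st) x
  choose f hf using hex
  have f_sh : ∀ i x, f (sh i x) = i + f x := by
    intro i x
    have hq : Quotient.mk st (sh i x) = Quotient.mk st x := (Quotient.sound (show st.r x (sh i x) from ⟨i, rfl⟩)).symm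
    have h1 := hf (sh i x)
    rw [hq] at h1
    have h2 : sh (i + f x) (Quotient.mk st x).out = sh i x := by rw [sh_add, Equiv.Perm.mul_apply, hf]
    have h4 : sh (-(i + f x) + f (sh i x)) (Quotient.mk st x).out = (Quotient.mk st x).out := by
      rw [sh_add, Equiv.Perm.mul_apply, h1, ← h2, ← Equiv.Perm.mul_apply, ← sh_add, neg_add_cancel]
      simp [sh]
    have := sh_free _ _ h4
    rw [neg_add_eq_zero] at this
    exact this.symm
  let R : Finset X := Finset.univ.filter fun x => f x = 0
  have hR : ∀ {x}, x ∈ R ↔ f x = 0 := fun {x} => by simp [R]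
  have hproj : ∀ x, sh (-f x) x ∈ R := fun x => hR.2 (by rw [f_sh]; exact neg_add_cancel _)
  have hcsh : ∀ (k : K) i x, ρ k (sh i x) = sh i (ρ k x) := fun k i x => by
    rw [← Equiv.Perm.mul_apply, ((hcomm k).pow_right i.val).eq]; rfl
  let σ : K → {x // x ∈ R} → {x // x ∈ R} := fun k r => ⟨sh (-f (ρ k r)) (ρ k r), hproj _⟩
  have hσ : ∀ k, Function.Bijective (σ k) := fun k => by
    refine Finite.injective_iff_bijective.1 fun r r' e => ?_
    have e' : sh (-f (ρ k r)) (ρ k r) = sh (-f (ρ k r')) (ρ k r') := congrArg Subtype.val e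
    rw [← hcsh, ← hcsh] at e'
    have e2 := congrArg f ((ρ k).injective e')
    rw [f_sh, f_sh, hR.1 r.2, hR.1 r'.2, add_zero, add_zero] at e2
    rw [e2] at e'
    exact Subtype.ext ((sh _).injective ((ρ k).injective e'))
  let χ : K → ZMod 3 := fun k => ∑ r : {x // x ∈ R}, f (ρ k r)
  have hχ : ∀ k l, χ (k * l) = χ k + χ l := by
    intro k l
    have hperm : ∑ r : {x // x ∈ R}, f (ρ k (σ l r)) = χ k :=
      Fintype.sum_bijective (σ l) (hσ l) (fun r => f (ρ k (σ l r))) (fun r => f (ρ k r)) fun r => rfl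
    rw [← hperm]
    show ∑ r : {x // x ∈ R}, f (ρ (k * l) r) = ∑ r : {x // x ∈ R}, f (ρ k (σ l r)) + ∑ r : {x // x ∈ R}, f (ρ l r)
    rw [← Finset.sum_add_distrib]
    refine Finset.sum_congr rfl fun r _ => ?_
    show _ = f (ρ k (sh (-f (ρ l r)) (ρ l r))) + f (ρ l r)
    rw [hcsh, f_sh, map_mul, Equiv.Perm.mul_apply]
    abel
  let φ : K →* Multiplicative (ZMod 3) := MonoidHom.mk' (fun k => Multiplicative.ofAdd (χ k)) fun k l => by
    rw [hχ]; rfl
  have hker : commutator K ⊔ ρ.ker ≤ φ.ker := by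
    refine sup_le (Abelianization.commutator_subset_ker φ) fun k hk => ?_
    show Multiplicative.ofAdd (χ k) = 1
    rw [ofAdd_eq_one]
    refine Finset.sum_eq_zero fun r _ => ?_
    rw [MonoidHom.mem_ker.1 hk]
    exact hR.1 r.2
  have h0 : χ p = 0 := ofAdd_eq_one.1 (MonoidHom.mem_ker.1 (hker hp))
  have h1 : χ p = (Fintype.card {x // x ∈ R} : ZMod 3) := by
    rw [← Finset.card_univ, Finset.cast_card]
    refine Finset.sum_congr rfl fun r _ => ?_
    rw [show ρ p r = sh 1 r from (congrArg (fun g : Equiv.Perm X => g r) (pow_one π)).symm, f_sh, hR.1 r.2,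
      add_zero]
  have hcard : Nat.card X = 3 * Fintype.card {x // x ∈ R} := by
    let e : X ≃ ZMod 3 × {x // x ∈ R} :=
      { toFun := fun x => (f x, ⟨sh (-f x) x, hproj x⟩)
        invFun := fun a => sh a.1 a.2
        left_inv := fun x => by
          show sh (f x) (sh (-f x) x) = x
          rw [← Equiv.Perm.mul_apply, ← sh_add, add_neg_cancel]
          simp [sh]
        right_inv := fun a => by
          refine Prod.ext ?_ (Subtype.ext ?_)
          · show f (sh a.1 a.2) = a.1
            rw [f_sh, hR.1 a.2.2, add_zero]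
          · show sh (-f (sh a.1 a.2)) (sh a.1 a.2) = a.2
            rw [f_sh, hR.1 a.2.2, add_zero, ← Equiv.Perm.mul_apply, ← sh_add, neg_add_cancel]
            simp [sh] }
    rw [Nat.card_congr e, Nat.card_prod, Nat.card_zmod, Nat.card_eq_fintype_card]
  rw [h1, ZMod.natCast_eq_zero_iff] at h0
  obtain ⟨t, ht⟩ := h0
  exact ⟨t, by omega⟩

variable {W : Type u} [AddCommGroup W]

/-- An element of order eleven fixes a space of order below 1024 pointwise. -/
theorem fix_of_small [Finite W] {b : ℕ} (hb : b < 10) (hW : Nat.card W = 2 ^ b) (x : W →+ W)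
    (h11 : ∀ w, x^[11] w = w) : ∀ w, x w = w := by
  haveI : Fact (Nat.Prime 11) := ⟨by norm_num⟩
  have h := J4Module.periodic_modEq (fun w => x w) h11
  have hd := AddSubgroup.card_addSubgroup_dvd_card (J4Module.fixX x)
  rw [hW] at hd h
  obtain ⟨j, hj, e⟩ := (Nat.dvd_prime_pow Nat.prime_two).1 hd
  have h' : 2 ^ b ≡ 2 ^ j [MOD 11] := by rw [← e]; exact h
  have hjb : j = b := by
    unfold Nat.ModEq at h'
    interval_cases b <;> interval_cases j <;> simp_all
  intro w
  have htop : J4Module.fixX x = ⊤ := AddSubgroup.eq_top_of_card_eq _ (by rw [e, hjb, hW])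
  exact (show w ∈ J4Module.fixX x by rw [htop]; exact AddSubgroup.mem_top w)

/-- **A central element of order three is fixed point free.** -/
theorem fpf [Finite W] (hW : Nat.card W = 4096) (h2 : ∀ w : W, w + w = 0) {K : Type v} [Group K]
    (ρ : K →* Equiv.Perm W) (hadd : ∀ k u v, ρ k (u + v) = ρ k u + ρ k v) (p x : K) (hp3 : ρ p ^ 3 = 1)
    (hp1 : ρ p ≠ 1) (hcomm : ∀ k, Commute (ρ k) (ρ p)) (hder : p ∈ commutator K ⊔ ρ.ker) (hx : x ^ 11 = 1)
    (hnorm : ∀ S : Subgroup K, S.Normal → ρ.ker ≤ S → x ∈ S → S = ⊤) : ∀ w, ρ p w = w → w = 0 := by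
  classical
  set π := ρ p with hπ
  let hom : K → W →+ W := fun k => AddMonoidHom.mk' (ρ k) (hadd k)
  have hπc : ∀ k w, ρ k (π w) = π (ρ k w) := fun k w => Equiv.Perm.ext_iff.1 (hcomm k).eq w
  have h3 : ∀ w, π (π (π w)) = w := fun w => by
    have := Equiv.Perm.ext_iff.1 hp3 w
    simpa [pow_succ, pow_zero] using this
  -- the two invariant subgroups
  let A : AddSubgroup W := J4Module.fixX (hom p)
  let B : AddSubgroup W := (hom p - AddMonoidHom.id W).range
  have hAm : ∀ {w}, w ∈ A ↔ π w = w := fun {w} => Iff.rfl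
  have hBm : ∀ {w}, w ∈ B ↔ ∃ v, π v - v = w := fun {w} => Iff.rfl
  have hdisj : ∀ w ∈ A, w ∈ B → w = 0 := by
    intro w hA hB
    obtain ⟨v, rfl⟩ := hBm.1 hB
    have hsub : ∀ a c : W, a - c = a + c := fun a c => by rw [sub_eq_add_neg, neg_eq_of_add_eq_zero_left (h2 c)]
    have e := hAm.1 hA
    rw [hsub] at e ⊢
    rw [hadd] at e
    have e2 : π (π v) = v := by
      rw [add_comm (π v) v] at e
      exact add_right_cancel e
    rw [show π v = v by nth_rewrite 1 [← e2]; exact h3 v, h2]
  by_contra hne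
  push Not at hne
  obtain ⟨w0, hw0, hw0'⟩ := hne
  have hA2 : 2 ≤ Nat.card A := by
    have : Nontrivial A := ⟨⟨⟨w0, hAm.2 hw0⟩, 0, fun e => hw0' (congrArg Subtype.val e)⟩⟩
    exact Finite.one_lt_card
  have hAB : Nat.card A * Nat.card B ≤ 4096 := by
    rw [← hW, ← Nat.card_prod]
    refine Nat.card_le_card_of_injective (fun q : A × B => (q.1 : W) + q.2) fun a c e => ?_
    have e' : (a.1 : W) - c.1 = c.2 - a.2 := by
      rw [sub_eq_sub_iff_add_eq_add, add_comm (c.2 : W)]; exact e
    have hz := hdisj _ (sub_mem a.1.2 c.1.2) (e' ▸ sub_mem c.2.2 a.2.2)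
    have h1 : a.1 = c.1 := Subtype.ext (sub_eq_zero.1 hz)
    refine Prod.ext h1 (Subtype.ext ?_)
    simp only [h1] at e
    exact add_left_cancel e
  have hBd : Nat.card B ∣ 2 ^ 12 := by
    have := AddSubgroup.card_addSubgroup_dvd_card B
    rwa [hW] at this
  obtain ⟨b, -, hb⟩ := (Nat.dvd_prime_pow Nat.prime_two).1 hBd
  have hb11 : b ≤ 11 := by
    by_contra hh
    have : 4096 ≤ Nat.card B := hb ▸ (by norm_num : (4096 : ℕ) = 2 ^ 12).le.trans (Nat.pow_le_pow_right (by norm_num) (by omega))
    have := Nat.mul_le_mul hA2 this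
    omega
  have hinv : ∀ k, ∀ w ∈ B, ρ k w ∈ B := by
    rintro k _ ⟨v, rfl⟩
    refine hBm.2 ⟨ρ k v, ?_⟩
    show _ = hom k (π v - v)
    rw [map_sub]
    show _ = ρ k (π v) - ρ k v
    rw [hπc]
  obtain ⟨w1, hw1⟩ : ∃ w, π w ≠ w := by
    by_contra hh
    push Not at hh
    exact hp1 (Equiv.ext hh)
  have hB1 : π w1 - w1 ∈ B := hBm.2 ⟨w1, rfl⟩
  have hnfix : ∀ w ∈ B, π w = w → w = 0 := fun w hw e => hdisj w (hAm.2 e) hw
  rcases Nat.lt_or_ge b 10 with hb10 | hb10
  · let S : Subgroup K :=
      { carrier := {k | ∀ w ∈ B, ρ k w = w}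
        one_mem' := fun w _ => by rw [map_one]; rfl
        mul_mem' := fun {k l} hk hl w hw => by rw [map_mul, Equiv.Perm.mul_apply, hl w hw, hk w hw]
        inv_mem' := fun {k} hk w hw => by
          rw [map_inv, Equiv.Perm.inv_def, Equiv.symm_apply_eq]; exact (hk w hw).symm }
    have hSn : S.Normal := ⟨fun s hs k w hw => by
      rw [map_mul, map_mul, map_inv, Equiv.Perm.mul_apply, Equiv.Perm.mul_apply]
      have := hs _ (show (ρ k)⁻¹ w ∈ B by rw [← map_inv]; exact hinv _ w hw)
      rw [this, ← Equiv.Perm.mul_apply, mul_inv_cancel]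
      rfl⟩
    have hS := hnorm S hSn (fun k hk w _ => by rw [MonoidHom.mem_ker.1 hk]; rfl) (fun w hw => by
      let xB : B →+ B := ((hom x).comp B.subtype).codRestrict B fun v => hinv x v v.2
      have hit : ∀ (m : ℕ) (v : B), ((xB^[m] v : B) : W) = (ρ x ^ m) v := by
        intro m
        induction m with
        | zero => intro v; rfl
        | succ m ih =>
          intro v
          rw [Function.iterate_succ_apply', pow_succ', Equiv.Perm.mul_apply, ← ih v]
          rfl
      have := fix_of_small hb10 hb xB (fun v => Subtype.ext (by rw [hit, ← map_pow, hx, map_one]; rfl)) ⟨w, hw⟩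
      exact congrArg Subtype.val this)
    have := hnfix _ hB1 ((show p ∈ S by rw [hS]; exact Subgroup.mem_top p) _ hB1)
    exact hw1 (sub_eq_zero.1 this)
  · let X := {w : W // w ∈ B ∧ w ≠ 0}
    have hmem : ∀ k w, w ∈ B ∧ w ≠ 0 ↔ ρ k w ∈ B ∧ ρ k w ≠ 0 := by
      have h0 : ∀ k, ρ k 0 = 0 := fun k => map_zero (hom k)
      intro k w
      constructor
      · exact fun ⟨h, h'⟩ => ⟨hinv k w h, fun e => h' ((ρ k).injective (e.trans (h0 k).symm))⟩
      · rintro ⟨h, h'⟩
        refine ⟨?_, fun e => h' (e ▸ h0 k)⟩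
        have := hinv k⁻¹ _ h
        rwa [← Equiv.Perm.mul_apply, ← map_mul, inv_mul_cancel, map_one] at this
    let ρX : K →* Equiv.Perm X :=
      { toFun := fun k => (ρ k).subtypePerm fun w => (hmem k w).symm
        map_one' := Equiv.ext fun w => Subtype.ext (by simp)
        map_mul' := fun k l => Equiv.ext fun w => Subtype.ext (by simp) }
    have hkk : ρ.ker ≤ ρX.ker := fun k hk => MonoidHom.mem_ker.2 (Equiv.ext fun w => Subtype.ext (by
      show ρ k w = w
      rw [MonoidHom.mem_ker.1 hk]; rfl))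
    have hder' : p ∈ commutator K ⊔ ρX.ker := by
      have hle : commutator K ⊔ ρ.ker ≤ commutator K ⊔ ρX.ker := sup_le_sup le_rfl hkk
      exact hle hder
    have h9 := nine_dvd ρX p (Equiv.ext fun w => Subtype.ext (by
        rw [← map_pow]
        show ρ (p ^ 3) w = (w : W)
        rw [map_pow, hp3]; rfl))
      (fun w e => w.2.2 (hnfix _ w.2.1 (congrArg Subtype.val e)))
      (fun k => Equiv.ext fun w => Subtype.ext (hπc k w)) hder'
    have hX : Nat.card X = 2 ^ b - 1 := by
      haveI := Fintype.ofFinite B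
      rw [← hb, Nat.card_congr (Equiv.subtypeSubtypeEquivSubtypeInter (fun w => w ∈ B) (fun w => w ≠ 0)).symm]
      rw [Nat.card_congr (Equiv.subtypeEquivRight fun w : B => (not_congr ZeroMemClass.coe_eq_zero)),
        Nat.card_eq_fintype_card, Fintype.card_subtype_compl, Fintype.card_subtype_eq, Nat.card_eq_fintype_card]
    rw [hX] at h9
    interval_cases b <;> simp at h9

end Cfsg.Agent.JankoFour.Reduce
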