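import Cfsg.Agent.Lib.JankoFour.Reduce.Scalar
import Cfsg.Agent.Lib.JankoFour.Exists
import Cfsg.Agent.Lib.Qd.Basic
import Cfsg.Agent.Lib.LocalEven.Basic

/-!
An involution centraliser of shape `2^(1+12)` extended by `3.M22.2`, given by three normal subgroups, satisfies the
conditions of Janko-four type.
-/

set_option autoImplicit false
set_option linter.style.haveILetI false
set_option linter.unusedSectionVars false

namespace Cfsg.Agent.JankoFour.Reduce

open Subgroup
open Cfsg.Agent.LargeFischer (Ctx QG VQ mkV mkV_surjective)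
open Cfsg.Agent.LargeExtra (mem_centralizer_one XSLocal)
open scoped commutatorElement

variable {G : Type*} [Group G] [Finite G] {t : G}

/-- The data of the centraliser: Q, N and M. -/
structure Tower (t : G) (Q N M : Subgroup ↥(centralizer ({t} : Set G))) : Prop where
  ht : orderOf t = 2
  normalQ : Q.Normal
  normalN : N.Normal
  normalM : M.Normal
  hQN : Q ≤ N
  hNM : N ≤ M
  hM : M.index = 2
  hQ : Cfsg.IsExtraspecial 2 Q
  hcard : Nat.card Q = 2 ^ 13
  hN : Nat.card N = 3 * Nat.card Q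
  hcent : ⁅M, N⁆ ≤ Q
  hperf : M ≤ ⁅M, M⁆ ⊔ Q
  h2c : centralizer (Q : Set ↥(centralizer ({t} : Set G))) ≤ Q
  hout : ∀ c : ↥(centralizer ({t} : Set G)), (∀ m ∈ M, c * m * c⁻¹ * m⁻¹ ∈ N) → c ∈ M
  hM22 : Cfsg.Spor.IsoM22 (↥M ⧸ N.subgroupOf M)

namespace Tower

variable {Q N M : Subgroup ↥(centralizer ({t} : Set G))} (T : Tower t Q N M)

include T in
theorem card_N : Nat.card ↥N = 24576 := by rw [T.hN, T.hcard]; norm_num

include T in
theorem card_M : Nat.card ↥M = 443520 * 24576 := by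
  haveI := T.normalN
  obtain ⟨e⟩ := T.hM22
  rw [card_eq_card_quotient_mul_card_subgroup (N.subgroupOf M), Nat.card_congr e.toEquiv, Golay.card_sporM22,
    Nat.card_congr (subgroupOfEquivOfLe T.hNM).toEquiv, T.card_N]

include T in
theorem comm_mem {m n : ↥(centralizer ({t} : Set G))} (hm : m ∈ M) (hn : n ∈ N) : m * n * m⁻¹ * n⁻¹ ∈ Q := by
  have h := commutator_mem_commutator hm hn
  rw [commutatorElement_def] at h
  exact T.hcent h

include T in
/-- The quotient by N is the automorphism group of M22; the inner automorphisms come from M. -/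
theorem exists_equiv : ∃ _ : N.Normal, ∃ e : ↥(centralizer ({t} : Set G)) ⧸ N ≃* MulAut ↥Cfsg.Spor.M22,
    ∀ c, e (QuotientGroup.mk c) ∈ Cfsg.Inn ↥Cfsg.Spor.M22 ↔ c ∈ M := by
  haveI := T.normalN
  haveI := T.normalM
  obtain ⟨e22⟩ := T.hM22
  let cA : ↥(centralizer ({t} : Set G)) → ↥M ⧸ N.subgroupOf M →* ↥M ⧸ N.subgroupOf M := fun c =>
    QuotientGroup.map _ _ (MulAut.conjNormal c : MulAut ↥M).toMonoidHom fun m hm => by
      rw [mem_comap, mem_subgroupOf]
      show ((MulAut.conjNormal c m : ↥M) : ↥(centralizer ({t} : Set G))) ∈ N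
      rw [MulAut.conjNormal_apply]
      exact T.normalN.conj_mem _ hm c
  have hcA : ∀ c (m : ↥M), cA c (QuotientGroup.mk m) = QuotientGroup.mk (MulAut.conjNormal c m) := fun _ _ => rfl
  have hmul : ∀ c d x, cA (c * d) x = cA c (cA d x) := by
    intro c d x
    induction x using QuotientGroup.induction_on with
    | H m => rw [hcA, hcA, hcA, map_mul, MulAut.mul_apply]
  have hone : ∀ x, cA 1 x = x := by
    intro x
    induction x using QuotientGroup.induction_on with
    | H m => rw [hcA, map_one]; rfl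
  let θ : ↥(centralizer ({t} : Set G)) →* MulAut (↥M ⧸ N.subgroupOf M) := MonoidHom.mk'
    (fun c =>
      { toFun := cA c
        invFun := cA c⁻¹
        left_inv := fun x => by rw [← hmul, inv_mul_cancel, hone]
        right_inv := fun x => by rw [← hmul, mul_inv_cancel, hone]
        map_mul' := map_mul (cA c) })
    fun c d => MulEquiv.ext fun x => hmul c d x
  let Θ : ↥(centralizer ({t} : Set G)) →* MulAut ↥Cfsg.Spor.M22 := (MulAut.congr e22).toMonoidHom.comp θ
  have hΘ : ∀ c m, Θ c (e22 (QuotientGroup.mk m)) = e22 (QuotientGroup.mk (MulAut.conjNormal c m)) := by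
    intro c m
    show e22 (cA c (e22.symm (e22 (QuotientGroup.mk m)))) = _
    rw [MulEquiv.symm_apply_apply, hcA]
  have hinner : ∀ (c : ↥(centralizer ({t} : Set G))) (hc : c ∈ M),
      Θ c = MulAut.conj (e22 (QuotientGroup.mk (⟨c, hc⟩ : ↥M))) := by
    intro c hc
    refine MulEquiv.ext fun a => ?_
    obtain ⟨x, rfl⟩ := e22.surjective a
    induction x using QuotientGroup.induction_on with
    | H m =>
      rw [hΘ, MulAut.conj_apply, ← map_inv, ← map_mul, ← map_mul, ← QuotientGroup.mk_inv, ← QuotientGroup.mk_mul,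
        ← QuotientGroup.mk_mul]
      exact congrArg (fun w : ↥M => e22 (QuotientGroup.mk w)) (Subtype.ext (MulAut.conjNormal_apply c m))
  have hker : Θ.ker = N := by
    ext c
    rw [MonoidHom.mem_ker]
    constructor
    · intro hc
      have hcM : c ∈ M := T.hout c fun m hm => by
        have h1 := hΘ c ⟨m, hm⟩
        rw [hc] at h1
        have h3 := T.normalN.conj_mem _ (mem_subgroupOf.1 (QuotientGroup.eq.1 (e22.injective h1))) m
        have h4 : m * (m⁻¹ * (c * m * c⁻¹)) * m⁻¹ ∈ N := by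
          simpa only [coe_mul, coe_inv, MulAut.conjNormal_apply] using h3
        rwa [show m * (m⁻¹ * (c * m * c⁻¹)) * m⁻¹ = c * m * c⁻¹ * m⁻¹ by group] at h4
      have h1 : e22 (QuotientGroup.mk (⟨c, hcM⟩ : ↥M)) = 1 := conj_injective (by rw [← hinner c hcM, hc, map_one])
      exact mem_subgroupOf.1 ((QuotientGroup.eq_one_iff _).1 (e22.map_eq_one_iff.1 h1))
    · intro hc
      rw [hinner c (T.hNM hc), show (QuotientGroup.mk (⟨c, T.hNM hc⟩ : ↥M) : ↥M ⧸ N.subgroupOf M) = 1 from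
        (QuotientGroup.eq_one_iff _).2 (mem_subgroupOf.2 hc), map_one, map_one]
  haveI : Finite (MulAut ↥Cfsg.Spor.M22) := Nat.finite_of_card_ne_zero (by rw [card_aut]; norm_num)
  have hinj : Function.Injective (QuotientGroup.lift N Θ hker.ge) := by
    rw [← MonoidHom.ker_eq_bot_iff, QuotientGroup.ker_lift, hker]
    exact QuotientGroup.map_mk'_self N
  have hq : Nat.card (↥(centralizer ({t} : Set G)) ⧸ N) = 887040 := by
    have h1 := card_eq_card_quotient_mul_card_subgroup N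
    have h2 := M.card_mul_index
    rw [T.hM, T.card_M] at h2
    rw [T.card_N, ← h2] at h1
    omega
  have hbij := hinj.bijective_of_nat_card_le (by rw [hq, card_aut])
  refine ⟨T.normalN, MulEquiv.ofBijective _ hbij, fun c => ?_⟩
  show Θ c ∈ Cfsg.Inn ↥Cfsg.Spor.M22 ↔ c ∈ M
  constructor
  · rintro ⟨a, ha⟩
    obtain ⟨x, rfl⟩ := e22.surjective a
    induction x using QuotientGroup.induction_on with
    | H m =>
      have h1 : Θ ((m : ↥(centralizer ({t} : Set G)))⁻¹ * c) = 1 := by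
        rw [map_mul, map_inv, ← ha, hinner _ m.2]
        exact inv_mul_cancel _
      have h2 : (m : ↥(centralizer ({t} : Set G)))⁻¹ * c ∈ N := hker ▸ MonoidHom.mem_ker.2 h1
      have := mul_mem m.2 (T.hNM h2)
      rwa [mul_inv_cancel_left] at this
  · intro hc
    exact ⟨_, (hinner c hc).symm⟩

include T in
/-- The largest normal 2-subgroup of the centraliser is Q. -/
theorem pCore_eq : Cfsg.pCore 2 ↥(centralizer ({t} : Set G)) = Q := by
  haveI : Fact (Nat.Prime 2) := ⟨Nat.prime_two⟩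
  haveI := T.normalN
  haveI := T.normalM
  obtain ⟨e22⟩ := T.hM22
  set R := Cfsg.pCore 2 ↥(centralizer ({t} : Set G)) with hR
  have hRn : R.Normal := FiniteGroup.pCore_normal 2
  have hR2 : IsPGroup 2 ↥R := FiniteGroup.pCore_isPGroup 2
  have hQR : Q ≤ R := LEBasic.le_pCore T.normalQ (IsPGroup.of_card T.hcard)
  have hRN : R ⊓ M ≤ N := by
    let S := (R.subgroupOf M).map (QuotientGroup.mk' (N.subgroupOf M))
    have hS2 : IsPGroup 2 ↥S :=
      (hR2.comap_of_injective M.subtype M.subtype_injective).map _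
    have hSn : S.Normal := (hRn.comap M.subtype).map _ (QuotientGroup.mk'_surjective _)
    haveI := Golay.isSimpleGroup_sporM22
    haveI : IsSimpleGroup (↥M ⧸ N.subgroupOf M) := e22.isSimpleGroup
    rcases hSn.eq_bot_or_eq_top with h | h
    · intro x hx
      have : (QuotientGroup.mk (⟨x, hx.2⟩ : ↥M) : ↥M ⧸ N.subgroupOf M) ∈ S :=
        mem_map_of_mem _ (show (⟨x, hx.2⟩ : ↥M) ∈ R.subgroupOf M from mem_subgroupOf.2 hx.1)
      rw [h, mem_bot, QuotientGroup.eq_one_iff] at this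
      exact mem_subgroupOf.1 this
    · exfalso
      obtain ⟨k, hk⟩ := IsPGroup.iff_card.1 hS2
      rw [h, card_top, Nat.card_congr e22.toEquiv, Golay.card_sporM22] at hk
      have : 3 ∣ 2 ^ k := ⟨147840, by omega⟩
      exact absurd (Nat.prime_three.dvd_of_dvd_pow this) (by norm_num)
  have hRMQ : R ⊓ M = Q := by
    refine (eq_of_le_of_card_ge (le_inf hQR (T.hQN.trans T.hNM)) ?_).symm
    obtain ⟨k, hk⟩ := IsPGroup.iff_card.1 (hR2.to_le (inf_le_left : R ⊓ M ≤ R))
    have hd := card_dvd_of_le hRN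
    rw [hk, T.hN, T.hcard] at hd
    rw [hk, T.hcard]
    exact Nat.pow_le_pow_right (by norm_num) ((Nat.pow_dvd_pow_iff_le_right (by norm_num)).1
      ((Nat.Coprime.dvd_mul_left (Nat.Coprime.pow_left _ (by norm_num))).1 hd))
  refine le_antisymm ?_ hQR
  rw [← hRMQ]
  refine le_inf le_rfl fun r hr => T.hout r fun m hm => T.hQN ?_
  rw [← hRMQ]
  refine ⟨?_, M.mul_mem (T.normalM.conj_mem m hm r) (inv_mem hm)⟩
  rw [show r * m * r⁻¹ * m⁻¹ = r * (m * r⁻¹ * m⁻¹) by group]
  exact mul_mem hr (hRn.conj_mem _ (inv_mem hr) m)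

include T in
theorem qg : QG Q = Cfsg.twoCoreOfCentralizer t := by
  show Q.map _ = (Cfsg.pCore 2 ↥(centralizer ({t} : Set G))).map _
  rw [T.pCore_eq]

include T in
theorem xs_qg : Cfsg.IsExtraspecial 2 ↥(QG Q) :=
  haveI : Fact (Nat.Prime 2) := ⟨Nat.prime_two⟩
  Qd.isExtraspecial_congr (Q.equivMapOfInjective _ (centralizer ({t} : Set G)).subtype_injective).symm T.hQ

include T in
theorem card_qg : Nat.card ↥(QG Q) = 2 ^ 13 := by
  rw [card_map_of_injective (centralizer ({t} : Set G)).subtype_injective, T.hcard]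

include T in
theorem cent_qg : centralizer ({t} : Set G) ⊓ centralizer (QG Q : Set G) ≤ QG Q := fun c hc =>
  ⟨⟨c, hc.1⟩, T.h2c (mem_centralizer_iff.2 fun q hq => Subtype.ext (mem_centralizer_iff.1 hc.2 q ⟨q, hq, rfl⟩)), rfl⟩

include T in
theorem mem_qg : t ∈ QG Q := by
  have ht' : (⟨t, mem_centralizer_one.2 rfl⟩ : ↥(centralizer ({t} : Set G))) ∈ Q :=
    T.h2c (mem_centralizer_iff.2 fun q _ => Subtype.ext (mem_centralizer_one.1 q.2))
  exact ⟨_, ht', rfl⟩

include T in
theorem ctx : Ctx t Q := by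
  refine ⟨XSLocal.of_core T.ht T.xs_qg T.mem_qg (map_subtype_le Q)
    (fun c hc => T.cent_qg ⟨mem_centralizer_one.2 (mem_centralizer_iff.1 hc t T.mem_qg).symm, hc⟩)
    (LargeExtra.normalizer_of_map_normal T.normalQ), by rw [T.card_qg]; norm_num, fun c hc hcomm =>
    T.cent_qg ⟨hc, mem_centralizer_iff.2 fun x hx => (hcomm x hx).symm⟩⟩

include T in
/-- An element of order three in N has no fixed point on Q modulo its centre. -/
theorem fixed_points {p : ↥(centralizer ({t} : Set G))} (hp : p ∈ N) (hp3 : orderOf p = 3) :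
    QG Q ⊓ centralizer (zpowers (p : G) : Set G) = zpowers t := by
  haveI := T.normalQ
  haveI := T.normalN
  haveI := T.normalM
  haveI : Fact (Nat.Prime 11) := ⟨by norm_num⟩
  obtain ⟨e22⟩ := T.hM22
  have h := T.ctx
  let ρ : ↥M →* Equiv.Perm (VQ Q) := h.rhoC.comp M.subtype
  have hρQ : ∀ m : ↥M, (m : ↥(centralizer ({t} : Set G))) ∈ Q → ρ m = 1 := fun m hm =>
    MonoidHom.mem_ker.1 (h.rhoC_Q hm)
  have hpQ : p ∉ Q := fun hq => by
    have := Subgroup.orderOf_dvd_natCard Q hq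
    rw [hp3, T.hcard] at this
    norm_num at this
  obtain ⟨x, hx⟩ := exists_prime_orderOf_dvd_card' (G := ↥M) 11 (by rw [T.card_M]; norm_num)
  have hxN : (x : ↥(centralizer ({t} : Set G))) ∉ N := fun hxn => by
    have := Subgroup.orderOf_dvd_natCard N hxn
    rw [Subgroup.orderOf_coe, hx, T.card_N] at this
    norm_num at this
  have hcomm : ∀ k, Commute (ρ k) (ρ ⟨p, T.hNM hp⟩) := fun k => by
    have h1 := hρQ (k * ⟨p, T.hNM hp⟩ * k⁻¹ * (⟨p, T.hNM hp⟩ : ↥M)⁻¹) (T.comm_mem k.2 hp)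
    rwa [map_mul, map_mul, map_mul, map_inv, map_inv, mul_inv_eq_one, mul_inv_eq_iff_eq_mul] at h1
  have hQker : Q.subgroupOf M ≤ ρ.ker := fun q hq => MonoidHom.mem_ker.2 (hρQ q hq)
  have hder : (⟨p, T.hNM hp⟩ : ↥M) ∈ _root_.commutator ↥M ⊔ ρ.ker := by
    have hle : M ≤ (_root_.commutator ↥M ⊔ ρ.ker).map M.subtype := by
      refine T.hperf.trans (sup_le ?_ fun q hq => ⟨⟨q, T.hNM (T.hQN hq)⟩, mem_sup_right (hQker hq), rfl⟩)
      rw [← map_subtype_commutator]
      exact map_mono le_sup_left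
    obtain ⟨y, hy, e⟩ := hle (T.hNM hp)
    exact (show y = ⟨p, T.hNM hp⟩ from Subtype.ext e) ▸ hy
  have hnorm : ∀ S : Subgroup ↥M, S.Normal → ρ.ker ≤ S → x ∈ S → S = ⊤ := by
    intro S hS hkS hxS
    haveI := hS
    haveI := Golay.isSimpleGroup_sporM22
    haveI : IsSimpleGroup (↥M ⧸ N.subgroupOf M) := e22.isSimpleGroup
    have hmap : S.map (QuotientGroup.mk' (N.subgroupOf M)) = ⊤ := by
      refine (hS.map _ (QuotientGroup.mk'_surjective _)).eq_bot_or_eq_top.resolve_left fun hb => hxN ?_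
      have : QuotientGroup.mk' (N.subgroupOf M) x ∈ S.map (QuotientGroup.mk' (N.subgroupOf M)) :=
        mem_map_of_mem _ hxS
      rw [hb, mem_bot, QuotientGroup.mk'_apply, QuotientGroup.eq_one_iff] at this
      exact mem_subgroupOf.1 this
    have hdec : ∀ a : ↥M, ∃ n : ↥M, (n : ↥(centralizer ({t} : Set G))) ∈ N ∧
        (QuotientGroup.mk a : ↥M ⧸ S) = QuotientGroup.mk n := by
      intro a
      obtain ⟨s, hs, e⟩ := (hmap ▸ mem_top (QuotientGroup.mk' (N.subgroupOf M) a) :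
        QuotientGroup.mk' (N.subgroupOf M) a ∈ S.map (QuotientGroup.mk' (N.subgroupOf M)))
      refine ⟨s⁻¹ * a, mem_subgroupOf.1 (QuotientGroup.eq.1 e), QuotientGroup.eq.2 ?_⟩
      rw [show a⁻¹ * (s⁻¹ * a) = a⁻¹ * s⁻¹ * a⁻¹⁻¹ by group]
      exact hS.conj_mem _ (inv_mem hs) _
    have hc : _root_.commutator ↥M ≤ S := by
      rw [_root_.commutator_def, commutator_le]
      intro a _ b _
      obtain ⟨n, hn, ea⟩ := hdec a
      obtain ⟨n', hn', eb⟩ := hdec b
      have h1 : (QuotientGroup.mk ⁅a, b⁆ : ↥M ⧸ S) = QuotientGroup.mk ⁅n, n'⁆ := by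
        simp only [commutatorElement_def, QuotientGroup.mk_mul, QuotientGroup.mk_inv, ea, eb]
      refine (QuotientGroup.eq_one_iff _).1 (h1.trans ((QuotientGroup.eq_one_iff _).2 (hkS (hQker ?_))))
      rw [mem_subgroupOf, commutatorElement_def]
      exact T.comm_mem n.2 hn'
    refine eq_top_iff.2 fun y _ => ?_
    have hle : M ≤ S.map M.subtype := by
      refine T.hperf.trans (sup_le ?_ fun q hq => ⟨⟨q, T.hNM (T.hQN hq)⟩, hkS (hQker hq), rfl⟩)
      rw [← map_subtype_commutator]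
      exact map_mono hc
    obtain ⟨y', hy', e⟩ := hle y.2
    exact (show y' = y from Subtype.ext e) ▸ hy'
  have hp3' : ρ ⟨p, T.hNM hp⟩ ^ 3 = 1 := by
    rw [← map_pow, show (⟨p, T.hNM hp⟩ : ↥M) ^ 3 = 1 from Subtype.ext (by
      show p ^ 3 = 1
      rw [← hp3]; exact pow_orderOf_eq_one p), map_one]
  have hfpf := fpf h.card_VQ h.two ρ (fun k => h.rhoC_add k) ⟨p, T.hNM hp⟩ x hp3'
    (fun e => hpQ (h.rhoC_ker ▸ MonoidHom.mem_ker.2 e : p ∈ Q)) hcomm hder (by rw [← hx]; exact pow_orderOf_eq_one x) hnorm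
  refine le_antisymm (fun v hv => ?_) (zpowers_le.2 ⟨T.mem_qg, mem_centralizer_iff.2 ?_⟩)
  · have h1 : h.rhoC p (mkV ⟨v, hv.1⟩) = mkV ⟨v, hv.1⟩ := by
      rw [h.rhoC_mk]
      refine congrArg mkV (Subtype.ext ?_)
      show (p : G) * v * (p : G)⁻¹ = v
      rw [mem_centralizer_iff.1 hv.2 _ (mem_zpowers _), mul_inv_cancel_right]
    rcases h.mkV_eq_zero.1 (hfpf _ h1) with e | e
    · exact (show v = 1 from e) ▸ one_mem _
    · exact (show v = t from e) ▸ mem_zpowers t
  · rintro _ ⟨i, rfl⟩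
    exact ((show Commute (p : G) t from mem_centralizer_one.1 p.2).zpow_left i).eq

include T in
/-- The centraliser conditions give Janko-four type at the involution. -/
theorem exists_type_with : ∃ P : Subgroup G, Cfsg.IsOfJankoFourTypeWith t P := by
  haveI : Fact (Nat.Prime 3) := ⟨Nat.prime_three⟩
  haveI := T.normalQ
  haveI := T.normalN
  haveI := T.normalM
  obtain ⟨_, e, he⟩ := T.exists_equiv
  obtain ⟨pn, hpn⟩ := exists_prime_orderOf_dvd_card' (G := ↥N) 3 (by rw [T.card_N]; norm_num)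
  set p : ↥(centralizer ({t} : Set G)) := (pn : ↥(centralizer ({t} : Set G))) with hpdef
  have hp : p ∈ N := pn.2
  have hp3 : orderOf p = 3 := by rw [Subgroup.orderOf_coe, hpn]
  set P : Subgroup G := zpowers (p : G) with hP
  have hinf := T.fixed_points hp hp3
  set NG : Subgroup G := N.map (centralizer ({t} : Set G)).subtype with hNG
  have hPN : P ≤ NG := zpowers_le.2 ⟨p, hp, rfl⟩
  have hPc : Nat.card ↥P = 3 := by rw [Nat.card_zpowers, Subgroup.orderOf_coe, hp3]
  have hQNG : QG Q ≤ NG := map_mono T.hQN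
  have hNGH : NG ≤ centralizer ({t} : Set G) := map_subtype_le N
  have hHNG : centralizer ({t} : Set G) ≤ normalizer (NG : Set G) := LargeExtra.normalizer_of_map_normal T.normalN
  have hNGcard : Nat.card ↥NG = 3 * Nat.card ↥(QG Q) := by
    rw [card_map_of_injective (centralizer ({t} : Set G)).subtype_injective, T.card_qg, T.hN, T.hcard]
  have hsub : NG.subgroupOf (centralizer ({t} : Set G)) = N :=
    comap_map_eq_self_of_injective (centralizer ({t} : Set G)).subtype_injective N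
  have hn : (NG.subgroupOf (centralizer ({t} : Set G))).Normal := by rw [hsub]; exact T.normalN
  let e' : ↥(centralizer ({t} : Set G)) ⧸ NG.subgroupOf (centralizer ({t} : Set G)) ≃* MulAut ↥Cfsg.Spor.M22 :=
    (QuotientGroup.quotientMulEquivOfEq hsub).trans e
  -- elements of M normalising P centralise it
  have hinner : ∀ n : ↥(centralizer ({t} : Set G)), n ∈ M → (n : G) ∈ normalizer (P : Set G) →
      (n : G) ∈ centralizer (P : Set G) := by
    intro n hn hnP
    have h1 : (n : G) * p * (n : G)⁻¹ * (p : G)⁻¹ ∈ P :=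
      mul_mem (LargeExtra.conj_mem hnP (mem_zpowers _)) (inv_mem (mem_zpowers _))
    have h2 : (n : G) * p * (n : G)⁻¹ * (p : G)⁻¹ ∈ QG Q := ⟨_, T.comm_mem hn hp, rfl⟩
    have h3 : (n : G) * p * (n : G)⁻¹ * (p : G)⁻¹ = 1 := by
      rw [← orderOf_eq_one_iff]
      have d1 := Subgroup.orderOf_dvd_natCard P h1
      have d2 := Subgroup.orderOf_dvd_natCard (QG Q) h2
      rw [hPc] at d1
      rw [T.card_qg] at d2
      exact Nat.eq_one_of_dvd_coprimes (by norm_num : Nat.Coprime 3 (2 ^ 13)) d1 d2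
    rw [mul_inv_eq_one, mul_inv_eq_iff_eq_mul] at h3
    refine mem_centralizer_iff.2 fun y hy => ?_
    obtain ⟨i, rfl⟩ := hy
    exact ((show Commute (p : G) (n : G) from h3.symm).zpow_left i).eq
  rw [T.qg] at hinf hQNG hNGcard
  have hinner' : ∀ n : ↥(centralizer ({t} : Set G)), (n : G) ∈ normalizer (P : Set G) →
      e' (QuotientGroup.mk n) ∈ Cfsg.Inn ↥Cfsg.Spor.M22 → (n : G) ∈ centralizer (P : Set G) :=
    fun n hnP hI => hinner n ((he n).1 hI) hnP
  obtain ⟨S⟩ := exists_shape_of (P := P) T.ht (T.qg ▸ T.xs_qg) (T.qg ▸ T.card_qg) (T.qg ▸ T.cent_qg) hQNG hNGH hHNG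
    hNGcard hn e' hPN hPc hinf (Or.inr hinner')
  refine ⟨P, T.ht, T.qg ▸ T.xs_qg, T.qg ▸ T.card_qg, T.qg ▸ T.cent_qg,
    ⟨NG, hQNG, hNGH, hHNG, hNGcard, ⟨hn, ⟨e'⟩⟩, hPN⟩, hPc, hinf, ?_, ?_⟩
  · -- some element of the centraliser inverts P
    obtain ⟨K⟩ := S.exists_coords
    obtain ⟨α, hα⟩ := K.exists_sigma_aut
    obtain ⟨n, hnα⟩ := S.pi_surj α
    intro heq
    have : (n : G) ∈ centralizer (P : Set G) :=
      (heq.le (show (n : G) ∈ centralizer ({t} : Set G) ⊓ normalizer (P : Set G) from ⟨n.2.2, n.2.1⟩)).2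
    exact K.semi_not_inner hα (hnα ▸ K.cent_inner this)
  · -- P lies in the derived group of its centraliser
    let μ := QuotientGroup.mk' Q
    let D := (centralizer (P : Set G)).subgroupOf (centralizer ({t} : Set G)) ⊓ M
    have hμ : M.map μ ≤ D.map μ := by
      rintro _ ⟨m, hm, rfl⟩
      obtain ⟨q, hq, n, hn, e1⟩ := S.decomp m m.2
      rw [S.qg, ← T.qg] at hq
      obtain ⟨q, hq, rfl⟩ := hq
      have e2 : m = q * ⟨n, hn.2⟩ := Subtype.ext e1
      have hnM : (⟨n, hn.2⟩ : ↥(centralizer ({t} : Set G))) ∈ M := by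
        rw [show (⟨n, hn.2⟩ : ↥(centralizer ({t} : Set G))) = q⁻¹ * m by rw [e2, inv_mul_cancel_left]]
        exact mul_mem (inv_mem (T.hNM (T.hQN hq))) hm
      exact ⟨_, ⟨hinner _ hnM hn.1, hnM⟩, by rw [e2, map_mul, (QuotientGroup.eq_one_iff q).2 hq |> (fun h => show μ q = 1 from h), one_mul]⟩
    have h1 : μ p ∈ ⁅D, D⁆.map μ := by
      have h0 : μ p ∈ (⁅M, M⁆ ⊔ Q).map μ := mem_map_of_mem μ (T.hperf (T.hNM hp))
      rw [Subgroup.map_sup, QuotientGroup.map_mk'_self, sup_bot_eq, map_commutator] at h0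
      rw [map_commutator]
      exact commutator_mono hμ hμ h0
    obtain ⟨d, hd, e1⟩ := h1
    have hq : d⁻¹ * p ∈ Q := QuotientGroup.eq.1 e1
    have hdD : d ∈ D := commutator_le_self D hd
    have hpd : Commute (p : G) (d : G) := mem_centralizer_iff.1 hdD.1 _ (mem_zpowers _)
    have hqz : ((d⁻¹ * p : ↥(centralizer ({t} : Set G))) : G) ∈ zpowers t := by
      rw [← hinf, ← T.qg]
      refine ⟨⟨_, hq, rfl⟩, mem_centralizer_iff.2 ?_⟩
      rintro _ ⟨i, rfl⟩
      exact (((hpd.inv_right).mul_right (Commute.refl _)).zpow_left i).eq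
    have hfour : d ^ 4 = p := by
      obtain ⟨i, hi⟩ := hqz
      have hd' : (d : G) = p * (t ^ i)⁻¹ := by
        have hi' : t ^ i = (d : G)⁻¹ * p := hi
        rw [hi']; group
      have hc : Commute (p : G) (t ^ i)⁻¹ :=
        ((show Commute (p : G) t from mem_centralizer_one.1 p.2).zpow_right i).inv_right
      apply Subtype.ext
      have ht4 : (t ^ i) ^ (4 : ℕ) = 1 := by
        rw [← zpow_natCast (t ^ i) 4, ← zpow_mul, show i * ((4 : ℕ) : ℤ) = ((2 : ℕ) : ℤ) * (2 * i) by push_cast; ring,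
          zpow_mul, zpow_natCast, show t ^ 2 = 1 by rw [← T.ht]; exact pow_orderOf_eq_one t, one_zpow]
      rw [Subgroup.coe_pow, hd', hc.mul_pow, inv_pow, ht4, inv_one, mul_one,
        show (p : G) ^ (4 : ℕ) = (p : G) ^ 3 * p from pow_succ _ 3,
        show (p : G) ^ 3 = 1 by rw [← hp3, ← Subgroup.orderOf_coe]; exact pow_orderOf_eq_one _, one_mul]
    have hpD : (p : G) ∈ (⁅D, D⁆).map (centralizer ({t} : Set G)).subtype :=
      ⟨p, hfour ▸ pow_mem hd 4, rfl⟩
    rw [map_commutator] at hpD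
    have hle : D.map (centralizer ({t} : Set G)).subtype ≤ centralizer ({t} : Set G) ⊓ centralizer (P : Set G) := by
      rintro _ ⟨d', hd', rfl⟩
      exact ⟨d'.2, hd'.1⟩
    exact zpowers_le.2 (commutator_mono hle hle hpD)

end Tower

end Cfsg.Agent.JankoFour.Reduce
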